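import Groth.Agent.AffCrit.Reduced
import Groth.Agent.CohQC.AffineHomCrit
import Groth.Agent.ModDesc.Iso
import Groth.Agent.DvrDom.ClosedProper

/-! Affineness of a morphism from surjectivity onto sections of closed subschemes. -/

universe u

open CategoryTheory Category Limits AlgebraicGeometry TopologicalSpace Opposite

set_option backward.isDefEq.respectTransparency false

namespace Groth.Agent.AffCrit

theorem isAffineHom_of_sections_surjective {X Y : Scheme.{u}} (f : X ⟶ Y) [QuasiCompact f] [QuasiSeparated f]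
    (h : ∀ (I : X.IdealSheafData) (W : Y.Opens), IsAffineOpen W → Function.Surjective (I.subschemeι.app (f ⁻¹ᵁ W))) :
    IsAffineHom f where
  isAffine_preimage W hW := by
    set U : X.Opens := f ⁻¹ᵁ W
    haveI : CompactSpace (U : Scheme) := isCompact_iff_compactSpace.mp (f.isCompact_preimage hW.isCompact)
    haveI : QuasiSeparatedSpace (U : Scheme) :=
      (isQuasiSeparated_iff_quasiSeparatedSpace _ U.2).1 (f.isQuasiSeparated_preimage hW.isQuasiSeparated)
    refine isAffine_of_reduced_surjective fun Z hZ => ?_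
    let C : Closeds X := ⟨closure (U.ι '' Z), isClosed_closure⟩
    let I := Scheme.IdealSheafData.vanishingIdeal C
    haveI : IsReduced I.subscheme := DvrDom.isReduced_vanishingIdeal_subscheme _
    refine ⟨(I.subschemeι ⁻¹ᵁ U : I.subscheme.Opens), inferInstance, I.subschemeι ∣_ U, inferInstance, ?_, ?_⟩
    · rw [morphismRestrict_base]
      ext x
      have e : closure Z = U.ι ⁻¹' closure (U.ι '' Z) := U.ι.isOpenEmbedding.isEmbedding.closure_eq_preimage_closure_image Z
      rw [hZ.closure_eq] at e
      constructor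
      · rintro ⟨z, rfl⟩
        rw [e]
        show I.subschemeι z.1 ∈ closure (U.ι '' Z)
        have : I.subschemeι z.1 ∈ (I.support : Set X) := I.range_subschemeι ▸ Set.mem_range_self z.1
        rwa [Scheme.IdealSheafData.coe_support_vanishingIdeal] at this
      · intro hx
        rw [e] at hx
        have : U.ι x ∈ Set.range I.subschemeι := by
          rw [I.range_subschemeι, Scheme.IdealSheafData.coe_support_vanishingIdeal]; exact hx
        obtain ⟨z, hz⟩ := this
        exact ⟨⟨z, show I.subschemeι z ∈ U from hz ▸ x.2⟩, Subtype.ext hz⟩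
    · rw [morphismRestrict_appTop]
      have key : ∀ V : X.Opens, V = U → Function.Surjective (I.subschemeι.app V) := by
        rintro _ rfl
        exact h I W hW
      intro t
      obtain ⟨a, ha⟩ := (ConcreteCategory.bijective_of_isIso (I.subscheme.presheaf.map
        (eqToHom (image_morphismRestrict_preimage I.subschemeι U ⊤)).op)).2 t
      obtain ⟨b, rfl⟩ := key _ U.ι_image_top a
      exact ⟨b, ha⟩

lemma epi_toSubscheme {X : Scheme.{u}} (I : X.IdealSheafData) :
    Coh.IsQCoh (ClSub.quotMod I) ∧ Epi (ClSub.toSubscheme I) := by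
  haveI : (Coh.structureModule I.subscheme).IsQuasicoherent := QC.isQCoh_unit _
  haveI hq : Coh.IsQCoh (ClSub.quotMod I) := QC.isQCoh_pushforward I.subschemeι
  refine ⟨hq, ModDesc.epi_of_affine_cover _ (fun U : X.affineOpens => U.1) (fun U => U.2) (fun x => ?_) fun U t => ?_⟩
  · obtain ⟨U, hU, hx, -⟩ := exists_isAffineOpen_mem_and_subset (U := (⊤ : X.Opens)) (x := x) trivial
    exact ⟨⟨U, hU⟩, hx⟩
  · obtain ⟨s, hs⟩ := I.subschemeι_app_surjective U t
    exact ⟨s, (QC.unitToPush_app _ _ _).trans hs⟩

/-- Exactness of the direct image on quasi-coherent modules makes the morphism affine. -/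
theorem isAffineHom_of_push_epi {X Y : Scheme.{u}} (f : X ⟶ Y) [QuasiCompact f] [QuasiSeparated f]
    (h : ∀ (F F'' : X.Modules) (p : F ⟶ F''), Coh.IsQCoh F → Coh.IsQCoh F'' → Epi p → Epi ((Coh.push f).map p)) :
    IsAffineHom f := by
  refine isAffineHom_of_sections_surjective f fun I W hW t => ?_
  obtain ⟨hq, hp⟩ := epi_toSubscheme I
  haveI := h _ _ (ClSub.toSubscheme I) (QC.isQCoh_unit X) hq hp
  haveI : (Coh.structureModule X).IsQuasicoherent := QC.isQCoh_unit _
  haveI := hq
  obtain ⟨s, hs⟩ := QC.app_surjective_of_epi hW (QC.isQCoh_pushforward (M := Coh.structureModule X) f)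
    (QC.isQCoh_pushforward (M := ClSub.quotMod I) f) ((Coh.push f).map (ClSub.toSubscheme I)) t
  exact ⟨s, (QC.unitToPush_app _ _ _).symm.trans hs⟩

/-- Vanishing of the first direct image on quasi-coherent ideals makes the morphism affine. -/
theorem isAffineHom_of_ideals {X Y : Scheme.{u}} (f : X ⟶ Y) [QuasiCompact f] [QuasiSeparated f]
    (h : ∀ (I : X.Modules) (i : I ⟶ Coh.structureModule X), Mono i → Coh.IsQCoh I →
      SiteCoh.LocKilled (Opens.grothendieckTopology Y) (Opens.map f.base) (Coh.toAb I) 1) : IsAffineHom f := by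
  refine isAffineHom_of_sections_surjective f fun I W hW t => ?_
  obtain ⟨hq, hp⟩ := epi_toSubscheme I
  let S : ShortComplex X.Modules := ShortComplex.mk (ClSub.idealModι I) (ClSub.toSubscheme I) (kernel.condition _)
  have hS : S.ShortExact :=
    { exact := ShortComplex.exact_of_f_is_kernel _ (kernelIsKernel _)
      epi_g := hp }
  have hI : Coh.IsQCoh (ClSub.idealMod I) := QC.isQCoh_idealMod I
  haveI : (ClSub.idealMod I).IsQuasicoherent := hI
  haveI : Coh.IsQCoh ((Coh.push f).obj (ClSub.idealMod I)) := QC.isQCoh_pushforward f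
  have hv : Subsingleton (CohSite.HU (Coh.toAb (ClSub.idealMod I)) 1 (f ⁻¹ᵁ W)) :=
    CohQC.hu_preimage_one_vanish f _ W (h (ClSub.idealMod I) (ClSub.idealModι I) inferInstance hI)
      (CohQC.hu_vanish_of_isAffineOpen ((Coh.push f).obj (ClSub.idealMod I)) hW 0)
  haveI : PreservesFiniteLimits (SheafOfModules.toSheaf X.ringCatSheaf) := inferInstance
  haveI : PreservesFiniteColimits (SheafOfModules.toSheaf X.ringCatSheaf) := CohQC.toSheaf_preservesFiniteColimits _
  have hS' := hS.map_of_exact (SheafOfModules.toSheaf X.ringCatSheaf)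
  haveI : Subsingleton (CohSite.HU (S.map (SheafOfModules.toSheaf X.ringCatSheaf)).X₁ 1 (f ⁻¹ᵁ W)) := hv
  obtain ⟨s, hs⟩ := SiteCoh.sections_surjective hS' (f ⁻¹ᵁ W) t
  exact ⟨s, (QC.unitToPush_app _ _ _).symm.trans hs⟩

end Groth.Agent.AffCrit
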