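import Mathlib.AlgebraicGeometry.Morphisms.Affine
import Mathlib.AlgebraicGeometry.Morphisms.ClosedImmersion

/-! Affineness from surjectivity of global sections onto reduced closed subschemes. -/

universe u

open CategoryTheory AlgebraicGeometry TopologicalSpace Opposite

set_option backward.isDefEq.respectTransparency false

namespace Groth.Agent.AffCrit

/-- In a scheme with a section `t` vanishing nowhere outside a chosen point: the integral case. -/
theorem exists_notMem_dvd {T : Scheme.{u}} [IsIntegral T] {ι : Type u} [Finite ι] (t : ι → Γ(T, ⊤))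
    (hcov : ∀ x : T, ∃ k, x ∈ T.basicOpen (t k)) (hqc : CompactSpace T) (hqs : QuasiSeparatedSpace T)
    (m : Ideal Γ(T, ⊤)) [m.IsPrime] (hmax : ∀ P : Ideal Γ(T, ⊤), P.IsPrime → P ≠ ⊥ → P ≤ m → ∀ k, t k ∈ P)
    (g : Γ(T, ⊤)) (hg : g ≠ 0) : ∃ s ∉ m, g ∣ s := by
  classical
  have key : ∀ k, ∃ (s b : Γ(T, ⊤)) (n : ℕ), s ∉ m ∧ g * b = s * t k ^ n := by
    intro k
    by_contra hne
    obtain ⟨P, hP, hgP, hdisj⟩ := Ideal.exists_le_prime_disjoint (Ideal.span {g})
      (m.primeCompl ⊔ Submonoid.powers (t k)) (Set.disjoint_left.2 fun x hx hx' => by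
        obtain ⟨s, hs, _, ⟨n, rfl⟩, rfl⟩ := Submonoid.mem_sup.1 hx'
        obtain ⟨b, hb⟩ := Ideal.mem_span_singleton.1 hx
        exact hne ⟨s, b, n, hs, hb.symm⟩)
    have hPm : P ≤ m := fun x hx => by
      by_contra hxm
      exact Set.disjoint_left.1 hdisj hx (Submonoid.mem_sup_left hxm)
    have hP0 : P ≠ ⊥ := fun h => hg ((Submodule.mem_bot _).1 (h ▸ hgP (Ideal.mem_span_singleton_self g)))
    exact Set.disjoint_left.1 hdisj (hmax P hP hP0 hPm k) (Submonoid.mem_sup_right ⟨1, pow_one _⟩)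
  choose s b n hs hb using key
  cases nonempty_fintype ι
  let S := ∏ k, s k
  have hS : S ∉ m := fun h => by
    obtain ⟨k, -, hk⟩ := ‹m.IsPrime›.prod_mem_iff.1 h
    exact hs k hk
  refine ⟨S, hS, ?_⟩
  let D : ι → T.Opens := fun k => T.basicOpen (t k)
  have hu : ∀ k, IsUnit (T.presheaf.map (homOfLE le_top : D k ⟶ ⊤).op (t k)) := fun k =>
    RingedSpace.isUnit_res_basicOpen T.toLocallyRingedSpace.toRingedSpace (t k)
  let sf : ∀ k, Γ(T, D k) := fun k =>
    T.presheaf.map (homOfLE le_top : D k ⟶ ⊤).op (b k * ∏ j ∈ Finset.univ.erase k, s j) * ↑((hu k).unit⁻¹ ^ n k)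
  have hsf : ∀ k, T.presheaf.map (homOfLE le_top : D k ⟶ ⊤).op g * sf k = T.presheaf.map (homOfLE le_top : D k ⟶ ⊤).op S := by
    intro k
    simp only [sf]
    rw [← mul_assoc, ← map_mul, ← mul_assoc, hb k, mul_right_comm, Finset.mul_prod_erase _ _ (Finset.mem_univ k)]
    rw [map_mul, map_pow, mul_assoc, Units.val_pow_eq_pow_val, ← mul_pow, IsUnit.mul_val_inv, one_pow, mul_one]
  obtain ⟨z, hz, -⟩ := T.sheaf.existsUnique_gluing' D ⊤ (fun k => homOfLE le_top)
    (fun x _ => Opens.mem_iSup.2 (hcov x)) sf (by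
      intro i j
      by_cases hne : Nonempty ↥(D i ⊓ D j : T.Opens)
      · haveI : Nonempty ↥((D i ⊓ D j : T.Opens) : Scheme) := hne
        have hgne : T.presheaf.map (homOfLE le_top : D i ⊓ D j ⟶ ⊤).op g ≠ 0 := fun h0 =>
          hg (map_injective_of_isIntegral T (homOfLE le_top : D i ⊓ D j ⟶ ⊤) (by rw [h0, map_zero]))
        haveI : IsDomain Γ(T, D i ⊓ D j) := inferInstance
        refine mul_left_cancel₀ (M₀ := Γ(T, D i ⊓ D j)) hgne ?_
        have e1 := congrArg (T.presheaf.map (Opens.infLELeft (D i) (D j)).op) (hsf i)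
        have e2 := congrArg (T.presheaf.map (Opens.infLERight (D i) (D j)).op) (hsf j)
        rw [map_mul] at e1 e2
        simp only [← ConcreteCategory.comp_apply, ← Functor.map_comp, ← op_comp] at e1 e2
        exact e1.trans e2.symm
      · have he : D i ⊓ D j = ⊥ := by
          ext x
          exact ⟨fun hx => (hne ⟨⟨x, hx⟩⟩).elim, fun hx => hx.elim⟩
        haveI : Subsingleton Γ(T, D i ⊓ D j) := by rw [he]; infer_instance
        exact Subsingleton.elim (α := Γ(T, D i ⊓ D j)) _ _)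
  refine ⟨z, ?_⟩
  obtain ⟨x⟩ := (inferInstance : Nonempty T)
  obtain ⟨k, hk⟩ := hcov x
  haveI : Nonempty ↥((D k : T.Opens) : Scheme) := ⟨⟨x, hk⟩⟩
  apply map_injective_of_isIntegral T (homOfLE le_top : D k ⟶ ⊤)
  rw [map_mul, ← hsf k]
  congr 1
  exact (hz k).symm

/-- A quasi-compact quasi-separated scheme is affine if global functions surject onto those of every reduced closed subscheme. -/
theorem isAffine_of_reduced_surjective {X : Scheme.{u}} [CompactSpace X] [QuasiSeparatedSpace X]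
    (h : ∀ Z : Set X, IsClosed Z → ∃ (T : Scheme.{u}) (_ : IsReduced T) (ι : T ⟶ X) (_ : IsClosedImmersion ι),
      Set.range ι = Z ∧ Function.Surjective ι.appTop) : IsAffine X := by
  classical
  let G : Set Γ(X, ⊤) := {g | IsAffineOpen (X.basicOpen g)}
  have hcovX : ∀ x : X, ∃ g ∈ G, x ∈ X.basicOpen g := by
    intro x
    obtain ⟨x₀, hx₀, hx₀c⟩ := isClosed_closure.exists_closed_singleton (S := closure ({x} : Set X))
      ⟨x, subset_closure rfl⟩
    suffices ∃ g ∈ G, x₀ ∈ X.basicOpen g by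
      obtain ⟨g, hgG, hg⟩ := this
      exact ⟨g, hgG, (specializes_iff_mem_closure.2 hx₀).mem_open (X.basicOpen g).2 hg⟩
    obtain ⟨U, hU, hxU, -⟩ := exists_isAffineOpen_mem_and_subset (U := (⊤ : X.Opens)) (x := x₀) trivial
    obtain ⟨T, _, ι, _, hr, hsurj⟩ := h ((U : Set X)ᶜ ∪ {x₀}) (U.2.isClosed_compl.union hx₀c)
    let V : X.Opens := ⟨{x₀}ᶜ, hx₀c.isOpen_compl⟩
    let W : ULift.{u} Bool → T.Opens := fun i => if i.down then ι ⁻¹ᵁ U else ι ⁻¹ᵁ V
    have hempty : ι ⁻¹ᵁ U ⊓ ι ⁻¹ᵁ V = ⊥ := by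
      ext z
      refine ⟨fun hz => ?_, fun hz => hz.elim⟩
      rcases (hr ▸ Set.mem_range_self z : ι z ∈ (U : Set X)ᶜ ∪ {x₀}) with h' | h'
      · exact (h' hz.1).elim
      · exact (hz.2 h').elim
    obtain ⟨q, hq, -⟩ := T.sheaf.existsUnique_gluing' W ⊤ (fun i => homOfLE le_top)
      (fun z _ => Opens.mem_iSup.2 (by
        rcases (hr ▸ Set.mem_range_self z : ι z ∈ (U : Set X)ᶜ ∪ {x₀}) with h' | h'
        · exact ⟨⟨false⟩, fun h'' => h' ((show ι z = x₀ from h'').symm ▸ hxU)⟩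
        · refine ⟨⟨true⟩, ?_⟩
          show ι z ∈ U
          rw [show ι z = x₀ from h']; exact hxU))
      (fun i => match i with
        | ⟨true⟩ => (1 : Γ(T, ι ⁻¹ᵁ U))
        | ⟨false⟩ => (0 : Γ(T, ι ⁻¹ᵁ V)))
      (by
        rintro ⟨_ | _⟩ ⟨_ | _⟩
        · rfl
        · haveI : Subsingleton Γ(T, ι ⁻¹ᵁ V ⊓ ι ⁻¹ᵁ U) := by rw [inf_comm, hempty]; infer_instance
          exact Subsingleton.elim (α := Γ(T, ι ⁻¹ᵁ V ⊓ ι ⁻¹ᵁ U)) _ _
        · haveI : Subsingleton Γ(T, ι ⁻¹ᵁ U ⊓ ι ⁻¹ᵁ V) := by rw [hempty]; infer_instance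
          exact Subsingleton.elim (α := Γ(T, ι ⁻¹ᵁ U ⊓ ι ⁻¹ᵁ V)) _ _
        · rfl)
    obtain ⟨g, hg⟩ := hsurj q
    have hpre : ι ⁻¹ᵁ X.basicOpen g = T.basicOpen q := by
      rw [Scheme.preimage_basicOpen]
      exact congrArg (fun r : Γ(T, ⊤) => T.basicOpen r) hg
    have hle : X.basicOpen g ≤ U := by
      intro y hy
      by_contra hyU
      obtain ⟨z, rfl⟩ : y ∈ Set.range ι := hr ▸ Or.inl hyU
      have hzV : z ∈ ι ⁻¹ᵁ V := fun h' => hyU ((show ι z = x₀ from h') ▸ hxU)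
      have hzq : z ∈ T.basicOpen q := hpre ▸ hy
      have := T.basicOpen_res q (homOfLE (le_top : ι ⁻¹ᵁ V ≤ ⊤)).op
      rw [show T.presheaf.map (homOfLE (le_top : ι ⁻¹ᵁ V ≤ ⊤)).op q = 0 from hq ⟨false⟩, Scheme.basicOpen_zero] at this
      exact (this.symm ▸ ⟨hzV, hzq⟩ : z ∈ (⊥ : T.Opens))
    refine ⟨g, ?_, ?_⟩
    · show IsAffineOpen (X.basicOpen g)
      have := X.basicOpen_res g (homOfLE (le_top : U ≤ ⊤)).op
      rw [inf_eq_right.2 hle] at this
      exact this ▸ hU.basicOpen _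
    · obtain ⟨z, rfl⟩ : x₀ ∈ Set.range ι := hr ▸ Or.inr rfl
      show z ∈ ι ⁻¹ᵁ X.basicOpen g
      rw [hpre]
      have := T.basicOpen_res q (homOfLE (le_top : ι ⁻¹ᵁ U ≤ ⊤)).op
      rw [show T.presheaf.map (homOfLE (le_top : ι ⁻¹ᵁ U ≤ ⊤)).op q = 1 from hq ⟨true⟩, Scheme.basicOpen_of_isUnit _ isUnit_one] at this
      exact (this ▸ hxU : z ∈ (ι ⁻¹ᵁ U) ⊓ T.basicOpen q).2
  refine isAffine_of_isAffineOpen_basicOpen G ?_ fun g hg => hg
  by_contra htop
  obtain ⟨m, hm, hGm⟩ := Ideal.exists_le_maximal _ htop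
  obtain ⟨G₀, hG₀, hcov₀⟩ : ∃ G₀ : Finset Γ(X, ⊤), (∀ g ∈ G₀, g ∈ G) ∧ ∀ x, ∃ g ∈ G₀, x ∈ X.basicOpen g := by
    obtain ⟨t, ht⟩ := isCompact_univ.elim_finite_subcover (fun g : G => (X.basicOpen g.1 : Set X))
      (fun g => (X.basicOpen g.1).2) fun x _ => by
        obtain ⟨g, hg, hx⟩ := hcovX x
        exact Set.mem_iUnion.2 ⟨⟨g, hg⟩, hx⟩
    refine ⟨t.image Subtype.val, fun g hg => ?_, fun x => ?_⟩
    · obtain ⟨g, -, rfl⟩ := Finset.mem_image.1 hg; exact g.2
    · obtain ⟨g, hg, hx⟩ := Set.mem_iUnion₂.1 (ht (Set.mem_univ x))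
      exact ⟨g.1, Finset.mem_image_of_mem _ hg, hx⟩
  let I₀ : Ideal Γ(X, ⊤) := Ideal.span (G₀ : Set Γ(X, ⊤))
  let S : Set (Ideal Γ(X, ⊤)) := {q | q.IsPrime ∧ q ≤ m ∧ ¬ I₀ ≤ q}
  have hSne : S.Nonempty := by
    by_contra hne
    have hnil : ∀ g ∈ G₀, ∃ s ∉ m, ∃ n : ℕ, s * g ^ n = 0 := by
      intro g hg
      by_contra hcon
      obtain ⟨P, hP, -, hdisj⟩ := Ideal.exists_le_prime_disjoint (⊥ : Ideal Γ(X, ⊤))
        (m.primeCompl ⊔ Submonoid.powers g) (Set.disjoint_left.2 fun x hx hx' => by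
          obtain ⟨s, hs, _, ⟨n, rfl⟩, rfl⟩ := Submonoid.mem_sup.1 hx'
          exact hcon ⟨s, hs, n, hx⟩)
      refine hne ⟨P, hP, fun x hx => ?_, fun hle => ?_⟩
      · by_contra hxm
        exact Set.disjoint_left.1 hdisj hx (Submonoid.mem_sup_left hxm)
      · exact Set.disjoint_left.1 hdisj (hle (Ideal.subset_span hg)) (Submonoid.mem_sup_right ⟨1, pow_one _⟩)
    choose s hs n hn using hnil
    have hprod : ∏ g ∈ G₀.attach, s g.1 g.2 ∉ m := fun hmem => by
      obtain ⟨g, -, hg⟩ := hm.isPrime.prod_mem_iff.1 hmem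
      exact hs _ _ hg
    apply hprod
    convert m.zero_mem
    refine TopCat.Sheaf.eq_of_locally_eq' X.sheaf (fun g : G₀ => X.basicOpen g.1) ⊤ (fun g => homOfLE le_top)
      (fun x _ => ?_) _ _ fun g => ?_
    · obtain ⟨g, hg, hx⟩ := hcov₀ x
      exact Opens.mem_iSup.2 ⟨⟨g, hg⟩, hx⟩
    · show X.presheaf.map (homOfLE le_top).op _ = X.presheaf.map (homOfLE le_top).op 0
      rw [map_zero, ← Finset.mul_prod_erase _ _ (Finset.mem_attach G₀ g), map_mul]
      have hu : IsUnit (X.presheaf.map (homOfLE le_top : X.basicOpen g.1 ⟶ ⊤).op g.1) :=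
        RingedSpace.isUnit_res_basicOpen X.toLocallyRingedSpace.toRingedSpace g.1
      have h0 := congrArg (X.presheaf.map (homOfLE le_top : X.basicOpen g.1 ⟶ ⊤).op) (hn g.1 g.2)
      rw [map_mul, map_pow, map_zero] at h0
      rw [(hu.pow _).mul_left_eq_zero.1 h0, zero_mul]
  obtain ⟨q, hqmax⟩ : ∃ q, Maximal (· ∈ S) q := by
    obtain ⟨q₀, hq₀⟩ := hSne
    obtain ⟨q, -, hq⟩ := zorn_le_nonempty₀ S (fun c hc hchain y hy => by
      have hdir : DirectedOn (· ≤ ·) c := hchain.directedOn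
      refine ⟨sSup c, ⟨?_, ?_, ?_⟩, fun z hz => le_sSup hz⟩
      · refine ⟨?_, ?_⟩
        · rw [Ideal.ne_top_iff_one, Submodule.mem_sSup_of_directed ⟨y, hy⟩ hdir]
          rintro ⟨z, hz, h1⟩
          exact (hc hz).1.ne_top ((Ideal.eq_top_iff_one z).2 h1)
        · intro a b hab
          rw [Submodule.mem_sSup_of_directed ⟨y, hy⟩ hdir] at hab
          obtain ⟨z, hz, hab⟩ := hab
          exact ((hc hz).1.mem_or_mem hab).imp (fun h => le_sSup hz h) (fun h => le_sSup hz h)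
      · exact sSup_le fun z hz => (hc hz).2.1
      · intro hle
        obtain ⟨z, hz, hzle⟩ : ∃ z ∈ c, I₀ ≤ z := by
          choose w hw hgw using fun g : G₀ => (Submodule.mem_sSup_of_directed ⟨y, hy⟩ hdir).1 (hle (Ideal.subset_span g.2))
          haveI : IsDirected c (· ≤ ·) := ⟨fun a b => by
            obtain ⟨z, hz, h1, h2⟩ := hdir a a.2 b b.2
            exact ⟨⟨z, hz⟩, h1, h2⟩⟩
          haveI : Nonempty c := ⟨⟨y, hy⟩⟩
          obtain ⟨z, hwz⟩ := Finset.exists_le (Finset.univ.image fun g : G₀ => (⟨w g, hw g⟩ : c))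
          exact ⟨z, z.2, Ideal.span_le.2 fun g hg => hwz _ (Finset.mem_image_of_mem _ (Finset.mem_univ ⟨g, hg⟩)) (hgw ⟨g, hg⟩)⟩
        exact (hc hz).2.2 hzle) q₀ hq₀
    exact ⟨q, hq⟩
  obtain ⟨hq, hqm, hqI⟩ := hqmax.1
  obtain ⟨g, hgG₀, hgq⟩ : ∃ g ∈ G₀, g ∉ q := by
    by_contra hne
    exact hqI (Ideal.span_le.2 fun x hx => by_contra fun hxq => hne ⟨x, hx, hxq⟩)
  have hgA : IsAffineOpen (X.basicOpen g) := hG₀ g hgG₀
  haveI := isLocalization_basicOpen_of_qcqs (X := X) (U := ⊤) isCompact_univ isQuasiSeparated_univ g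
  let φ := algebraMap Γ(X, ⊤) Γ(X, X.basicOpen g)
  have hdisj : Disjoint (Submonoid.powers g : Set Γ(X, ⊤)) q := Set.disjoint_left.2 fun x hx hxq => by
    obtain ⟨n, rfl⟩ := hx
    exact hgq (hq.mem_of_pow_mem n hxq)
  let Q : Spec Γ(X, X.basicOpen g) := ⟨q.map φ, IsLocalization.isPrime_of_isPrime_disjoint (Submonoid.powers g) _ q hq hdisj⟩
  let y : X := hgA.fromSpec Q
  have hy : ∀ a, y ∈ X.basicOpen a ↔ a ∉ q := by
    intro a
    have hyD : y ∈ X.basicOpen g := by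
      rw [← SetLike.mem_coe, ← hgA.range_fromSpec]; exact ⟨Q, rfl⟩
    have e1 : y ∈ X.basicOpen a ↔ y ∈ X.basicOpen (φ a) := by
      rw [show φ a = X.presheaf.map (homOfLE le_top : X.basicOpen g ⟶ ⊤).op a from rfl, Scheme.basicOpen_res]
      exact ⟨fun h' => ⟨hyD, h'⟩, fun h' => h'.2⟩
    rw [e1, show y ∈ X.basicOpen (φ a) ↔ Q ∈ hgA.fromSpec ⁻¹ᵁ X.basicOpen (φ a) from Iff.rfl,
      hgA.fromSpec_preimage_basicOpen]
    show φ a ∉ q.map φ ↔ a ∉ q
    refine not_congr ⟨fun h' => ?_, fun h' => Ideal.mem_map_of_mem _ h'⟩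
    have := IsLocalization.comap_map_of_isPrime_disjoint (Submonoid.powers g) Γ(X, X.basicOpen g) hq hdisj
    exact this ▸ h'
  obtain ⟨T, _, ι, _, hr, hsurj⟩ := h (closure {y}) isClosed_closure
  haveI : IrreducibleSpace T := by
    have hi : IsIrreducible (Set.range ι) := hr ▸ isIrreducible_singleton.closure
    haveI : IrreducibleSpace (Set.range ι) := Subtype.irreducibleSpace hi
    let e := ι.isClosedEmbedding.isEmbedding.toHomeomorph
    have hu : IsIrreducible (Set.univ : Set T) := by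
      have := (IrreducibleSpace.isIrreducible_univ (Set.range ι)).image e.symm e.symm.continuous.continuousOn
      rwa [Set.image_univ, e.symm.range_coe] at this
    exact irreducibleSpace_def _ |>.2 hu
  haveI : IsIntegral T := isIntegral_of_irreducibleSpace_of_isReduced T
  haveI : CompactSpace T := ι.isClosedEmbedding.compactSpace
  haveI : QuasiSeparatedSpace T := quasiSeparatedSpace_of_quasiSeparated ι
  haveI : Nonempty ↥(⊤ : T.Opens) := ⟨⟨Classical.arbitrary T, trivial⟩⟩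
  let π := ι.appTop.hom
  have hker : ∀ a, π a = 0 ↔ a ∈ q := by
    intro a
    rw [← basicOpen_eq_bot_iff]
    refine Decidable.not_iff_not.1 ?_
    rw [← hy a]
    rw [show T.basicOpen (π a) = ι ⁻¹ᵁ X.basicOpen a from (Scheme.preimage_basicOpen ι a).symm]
    constructor
    · intro hne
      obtain ⟨z, hz⟩ : ∃ z, z ∈ ι ⁻¹ᵁ X.basicOpen a := by
        by_contra hcon
        exact hne (Opens.ext (Set.eq_empty_iff_forall_notMem.2 fun z hz => hcon ⟨z, hz⟩))
      exact (specializes_iff_mem_closure.2 (hr ▸ Set.mem_range_self z)).mem_open (X.basicOpen a).2 hz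
    · intro hya hbot
      obtain ⟨z, hz⟩ : y ∈ Set.range ι := hr ▸ subset_closure rfl
      have : z ∈ ι ⁻¹ᵁ X.basicOpen a := show ι z ∈ X.basicOpen a from hz.symm ▸ hya
      rw [hbot] at this
      exact this
  have hkerm : RingHom.ker π ≤ m := fun a ha => hqm ((hker a).1 ha)
  let m' := m.map π
  haveI : m'.IsPrime := Ideal.map_isPrime_of_surjective hsurj hkerm
  have hm'c : m'.comap π = m := (Ideal.comap_map_of_surjective' π hsurj m).trans (sup_eq_left.2 hkerm)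
  obtain ⟨s, hs, c, hc⟩ := exists_notMem_dvd (T := T) (fun k : G₀ => π k.1) (fun x => by
      obtain ⟨k, hk, hx⟩ := hcov₀ (ι x)
      refine ⟨⟨k, hk⟩, ?_⟩
      rw [show T.basicOpen (π k) = ι ⁻¹ᵁ X.basicOpen k from (Scheme.preimage_basicOpen ι k).symm]
      exact hx) inferInstance inferInstance m' (fun P hP hP0 hPm k => by
      have hS : ¬ P.comap π ∈ S := fun hmem => by
        have hle : q ≤ P.comap π := fun a ha => by
          rw [Ideal.mem_comap, (hker a).2 ha]; exact P.zero_mem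
        have := hqmax.le_of_ge hmem hle
        refine hP0 (eq_bot_iff.2 fun r hr' => ?_)
        obtain ⟨a, rfl⟩ := hsurj r
        exact (Submodule.mem_bot _).2 ((hker a).2 (this hr'))
      by_contra hk
      exact hS ⟨Ideal.comap_isPrime π P, hm'c ▸ Ideal.comap_mono hPm, fun hle => hk (hle (Ideal.subset_span k.2))⟩)
    (π g) (fun h0 => hgq ((hker g).1 h0))
  exact hs (hc ▸ m'.mul_mem_right c (Ideal.mem_map_of_mem π (hGm (Ideal.subset_span (hG₀ g hgG₀)))))

end Groth.Agent.AffCrit
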